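import Groth.Agent.FEtFieldLib.Krull
import Groth.Agent.FEtColimLib.Galois
import Mathlib.CategoryTheory.Galois.IsFundamentalgroup
import Mathlib.CategoryTheory.Galois.Equivalence
import Mathlib.RingTheory.Etale.Field
import Mathlib.RingTheory.Artinian.Module

/-!
# The fundamental group of a field
-/

set_option autoImplicit false
set_option linter.style.haveILetI false
universe u

open CategoryTheory CategoryTheory.Limits AlgebraicGeometry FEtColim
open scoped FintypeCatDiscrete

noncomputable section

namespace FEtField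

variable {K : Type u} [Field K]

/-- The Galois group of an algebraic closure. -/
abbrev Γal (K : Type u) [Field K] : Type u := AlgebraicClosure K ≃ₐ[K] AlgebraicClosure K

/-- The geometric point given by an algebraic closure. -/
abbrev xi (K : Type u) [Field K] : Spec (CommRingCat.of (AlgebraicClosure K)) ⟶ Spec (CommRingCat.of K) :=
  Spec.map (CommRingCat.ofHom (algebraMap K (AlgebraicClosure K)))

theorem isAffine_left (Y : FEt.Cat (Spec (CommRingCat.of K))) : IsAffine Y.left := by
  haveI := isFinite_hom Y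
  exact isAffine_of_isAffineHom (str Y)

attribute [local instance] isAffine_left

/-- The structure map on global functions. -/
def strR (Y : FEt.Cat (Spec (CommRingCat.of K))) : CommRingCat.of K ⟶ Γ(Y.left, ⊤) :=
  Spec.preimage (Y.left.isoSpec.inv ≫ str Y)

theorem finite_strR (Y : FEt.Cat (Spec (CommRingCat.of K))) : (strR Y).hom.Finite := by
  haveI := isFinite_hom Y
  rw [← IsFinite.SpecMap_iff, strR, Spec.map_preimage]
  infer_instance

/-- The coordinates of a point of the fibre. -/
def coord {Y : FEt.Cat (Spec (CommRingCat.of K))} (s : FEt.fiberObj (xi K) Y) :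
    Γ(Y.left, ⊤) ⟶ CommRingCat.of (AlgebraicClosure K) :=
  Spec.preimage (s.1 ≫ Y.left.isoSpec.hom)

theorem map_coord {Y : FEt.Cat (Spec (CommRingCat.of K))} (s : FEt.fiberObj (xi K) Y) :
    Spec.map (coord s) = s.1 ≫ Y.left.isoSpec.hom := Spec.map_preimage _

theorem coord_injective (Y : FEt.Cat (Spec (CommRingCat.of K))) :
    Function.Injective (coord : FEt.fiberObj (xi K) Y → _) := fun s t h => by
  refine Subtype.ext ((cancel_mono Y.left.isoSpec.hom).mp ?_)
  rw [← map_coord, ← map_coord, h]

theorem strR_coord {Y : FEt.Cat (Spec (CommRingCat.of K))} (s : FEt.fiberObj (xi K) Y) :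
    strR Y ≫ coord s = CommRingCat.ofHom (algebraMap K (AlgebraicClosure K)) := by
  apply Spec.map_injective
  rw [Spec.map_comp, map_coord, strR, Spec.map_preimage, Category.assoc, Iso.hom_inv_id_assoc]
  exact s.2

theorem xi_comp (g : Γal K) : Spec.map (CommRingCat.ofHom g.toAlgHom.toRingHom) ≫ xi K = xi K := by
  rw [← Spec.map_comp]
  congr 1
  ext x
  exact g.commutes x

instance smulInst (Y : FEt.Cat (Spec (CommRingCat.of K))) : MulAction (Γal K) (FEt.fiberObj (xi K) Y) where
  smul g s := ⟨Spec.map (CommRingCat.ofHom g.toAlgHom.toRingHom) ≫ s.1, by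
    rw [Category.assoc]
    exact (congrArg (_ ≫ ·) s.2).trans (xi_comp g)⟩
  one_smul s := Subtype.ext (show Spec.map (CommRingCat.ofHom (1 : Γal K).toAlgHom.toRingHom) ≫ s.1 = s.1 by
    rw [show CommRingCat.ofHom (1 : Γal K).toAlgHom.toRingHom = 𝟙 _ from rfl, Spec.map_id, Category.id_comp])
  mul_smul g h s := Subtype.ext (show Spec.map (CommRingCat.ofHom (g * h).toAlgHom.toRingHom) ≫ s.1 =
      Spec.map (CommRingCat.ofHom g.toAlgHom.toRingHom) ≫ Spec.map (CommRingCat.ofHom h.toAlgHom.toRingHom) ≫ s.1 by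
    rw [← Category.assoc, ← Spec.map_comp]
    rfl)

theorem smul_val (g : Γal K) {Y : FEt.Cat (Spec (CommRingCat.of K))} (s : FEt.fiberObj (xi K) Y) :
    (g • s).1 = Spec.map (CommRingCat.ofHom g.toAlgHom.toRingHom) ≫ s.1 := rfl

theorem coord_smul (g : Γal K) {Y : FEt.Cat (Spec (CommRingCat.of K))} (s : FEt.fiberObj (xi K) Y) :
    coord (g • s) = coord s ≫ CommRingCat.ofHom g.toAlgHom.toRingHom := by
  apply Spec.map_injective
  rw [Spec.map_comp, map_coord, map_coord, smul_val, Category.assoc]

instance actionInst (Y : FEt.Cat (Spec (CommRingCat.of K))) : MulAction (Γal K) ((finFiber (xi K)).obj Y) :=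
  smulInst Y

instance : PreGaloisCategory.IsNaturalSMul (finFiber (xi K)) (Γal K) where
  naturality g Y Z f s := Subtype.ext (Category.assoc (Spec.map (CommRingCat.ofHom g.toAlgHom.toRingHom)) s.1 f.left)

theorem isOpen_stabilizer {Y : FEt.Cat (Spec (CommRingCat.of K))} (s : FEt.fiberObj (xi K) Y) :
    IsOpen (MulAction.stabilizer (Γal K) s : Set (Γal K)) := by
  letI := (strR Y).hom.toAlgebra
  haveI : Module.Finite K Γ(Y.left, ⊤) := finite_strR Y
  obtain ⟨S, hS⟩ := Module.Finite.fg_top (R := K) (M := Γ(Y.left, ⊤))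
  let φ : Γ(Y.left, ⊤) →ₐ[K] AlgebraicClosure K :=
    { toRingHom := (coord s).hom
      commutes' := fun x => RingHom.congr_fun (congrArg CommRingCat.Hom.hom (strR_coord s)) x }
  let E := IntermediateField.adjoin K (φ '' (S : Set Γ(Y.left, ⊤)))
  haveI : FiniteDimensional K E := by
    haveI : Finite (φ '' (S : Set Γ(Y.left, ⊤))) := (S.finite_toSet.image _).to_subtype
    exact IntermediateField.finiteDimensional_adjoin fun x _ => Algebra.IsIntegral.isIntegral x
  refine Subgroup.isOpen_mono (fun g hg => ?_) E.fixingSubgroup_isOpen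
  rw [MulAction.mem_stabilizer_iff]
  apply coord_injective
  rw [coord_smul]
  have : g.toAlgHom.comp φ = φ := by
    refine AlgHom.toLinearMap_injective (LinearMap.ext_on hS fun x hx => ?_)
    exact (IntermediateField.mem_fixingSubgroup_iff _ _).mp hg _
      (IntermediateField.subset_adjoin K _ ⟨x, hx, rfl⟩)
  exact CommRingCat.hom_ext (congrArg AlgHom.toRingHom this)

/-- A connected cover of a field is a single point. -/
theorem subsingleton_of_isConnected (Y : FEt.Cat (Spec (CommRingCat.of K))) [PreGaloisCategory.IsConnected Y] :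
    Subsingleton Y.left := by
  refine ⟨fun p q => ?_⟩
  letI := (strR Y).hom.toAlgebra
  haveI : Module.Finite K Γ(Y.left, ⊤) := finite_strR Y
  haveI : IsArtinianRing Γ(Y.left, ⊤) := IsArtinianRing.of_finite K _
  haveI : DiscreteTopology Y.left := Y.left.isoSpec.hom.homeomorph.symm.discreteTopology
  haveI := isFinite_hom Y
  haveI := etale_hom Y
  let U : Y.left.Opens := ⟨{p}, isOpen_discrete _⟩
  haveI : IsOpenImmersion U.ι := U.instIsOpenImmersionι
  haveI : IsClosedImmersion U.ι := IsClosedImmersion.of_isPreimmersion U.ι (isClosed_discrete _)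
  let W : FEt.Cat (Spec (CommRingCat.of K)) := MorphismProperty.Over.mk (P := FEt.prop) ⊤ (U.ι ≫ str Y)
    ⟨inferInstanceAs (IsFinite (U.ι ≫ str Y)), inferInstanceAs (Etale (U.ι ≫ str Y))⟩
  let i : W ⟶ Y := MorphismProperty.Over.homMk U.ι rfl
  haveI : Mono i := by
    haveI : Mono ((MorphismProperty.Over.forget FEt.prop ⊤ _ ⋙ Over.forget _).map i) :=
      (inferInstanceAs (Mono U.ι))
    exact (MorphismProperty.Over.forget FEt.prop ⊤ _ ⋙ Over.forget _).mono_of_mono_map this
  haveI : IsIso i := by
    refine PreGaloisCategory.IsConnected.noTrivialComponent W i fun hW => ?_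
    obtain ⟨Ω, _, _, s, -⟩ := exists_geomPt W.left ⟨p, Set.mem_singleton p⟩
    exact (isEmpty_fibre_initial hW (s ≫ str W)).false (pt s)
  haveI : IsIso U.ι :=
    inferInstanceAs (IsIso ((MorphismProperty.Over.forget FEt.prop ⊤ _ ⋙ Over.forget _).map i))
  obtain ⟨z, hz⟩ := U.ι.surjective q
  rw [← hz]
  exact (z.2 : U.ι z ∈ ({p} : Set Y.left)).symm

theorem isPretransitive (Y : FEt.Cat (Spec (CommRingCat.of K))) [PreGaloisCategory.IsConnected Y] :
    MulAction.IsPretransitive (Γal K) (FEt.fiberObj (xi K) Y) := by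
  refine ⟨fun s t => ?_⟩
  haveI := subsingleton_of_isConnected Y
  letI := (strR Y).hom.toAlgebra
  haveI : Module.Finite K Γ(Y.left, ⊤) := finite_strR Y
  haveI : IsArtinianRing Γ(Y.left, ⊤) := IsArtinianRing.of_finite K _
  haveI : Subsingleton (PrimeSpectrum Γ(Y.left, ⊤)) := Y.left.isoSpec.hom.homeomorph.symm.injective.subsingleton
  let φ (r : FEt.fiberObj (xi K) Y) : Γ(Y.left, ⊤) →ₐ[K] AlgebraicClosure K :=
    { toRingHom := (coord r).hom
      commutes' := fun x => RingHom.congr_fun (congrArg CommRingCat.Hom.hom (strR_coord r)) x }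
  have hker : RingHom.ker (φ t) = RingHom.ker (φ s) :=
    congrArg PrimeSpectrum.asIdeal (Subsingleton.elim (⟨_, RingHom.ker_isPrime (φ t)⟩ : PrimeSpectrum Γ(Y.left, ⊤))
      ⟨_, RingHom.ker_isPrime (φ s)⟩)
  haveI : (RingHom.ker (φ s)).IsPrime := RingHom.ker_isPrime _
  haveI : (RingHom.ker (φ s)).IsMaximal := inferInstance
  letI := Ideal.Quotient.field (RingHom.ker (φ s))
  let f : (Γ(Y.left, ⊤) ⧸ RingHom.ker (φ s)) →ₐ[K] AlgebraicClosure K :=
    Ideal.Quotient.liftₐ _ (φ s) fun a ha => ha
  let g : (Γ(Y.left, ⊤) ⧸ RingHom.ker (φ s)) →ₐ[K] AlgebraicClosure K :=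
    Ideal.Quotient.liftₐ _ (φ t) fun a ha => hker.symm.le ha
  let h : f.fieldRange →ₐ[K] AlgebraicClosure K := g.comp (AlgEquiv.ofInjectiveField f).symm.toAlgHom
  let σ : Γal K := AlgEquiv.ofBijective (h.liftNormal (AlgebraicClosure K))
    (Algebra.IsAlgebraic.algHom_bijective _)
  refine ⟨σ, coord_injective Y ?_⟩
  rw [coord_smul]
  refine CommRingCat.hom_ext (RingHom.ext fun a => ?_)
  show h.liftNormal (AlgebraicClosure K) (φ s a) = φ t a
  have e := h.liftNormal_commutes (AlgebraicClosure K) (AlgEquiv.ofInjectiveField f (Ideal.Quotient.mk _ a))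
  refine e.trans ?_
  show g ((AlgEquiv.ofInjectiveField f).symm (AlgEquiv.ofInjectiveField f (Ideal.Quotient.mk _ a))) = φ t a
  rw [AlgEquiv.symm_apply_apply]
  rfl

theorem eq_one_of_smul_eq (g : Γal K)
    (h : ∀ (Y : FEt.Cat (Spec (CommRingCat.of K))) (s : FEt.fiberObj (xi K) Y), g • s = s) : g = 1 := by
  refine AlgEquiv.ext fun x => fixed_of_fixes_separable ⊤ g (fun y hy => ?_) x trivial
  have hsep : IsSeparable K y := mem_separableClosure_iff.mp (IntermediateField.mem_inf.mp hy).2
  let E := IntermediateField.adjoin K ({y} : Set (AlgebraicClosure K))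
  haveI : FiniteDimensional K E := IntermediateField.adjoin.finiteDimensional (Algebra.IsIntegral.isIntegral y)
  haveI : Algebra.IsSeparable K E := (IntermediateField.isSeparable_adjoin_simple_iff_isSeparable K _).mpr hsep
  haveI : Algebra.FinitePresentation K E := Algebra.FinitePresentation.of_finiteType.mp inferInstance
  haveI : Algebra.Etale K E := ⟨Algebra.FormallyEtale.of_isSeparable K E, inferInstance⟩
  let Y : FEt.Cat (Spec (CommRingCat.of K)) := MorphismProperty.Over.mk (P := FEt.prop) ⊤
    (Spec.map (CommRingCat.ofHom (algebraMap K E)))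
    ⟨(IsFinite.SpecMap_iff _).mpr (RingHom.finite_algebraMap.mpr inferInstance),
      (HasRingHomProperty.Spec_iff (P := @Etale)).mpr (RingHom.etale_algebraMap.mpr inferInstance)⟩
  let s : FEt.fiberObj (xi K) Y := ⟨Spec.map (CommRingCat.ofHom E.val.toRingHom), by
    show Spec.map _ ≫ Spec.map _ = _
    rw [← Spec.map_comp]; rfl⟩
  have e : Spec.map (CommRingCat.ofHom E.val.toRingHom ≫ CommRingCat.ofHom g.toAlgHom.toRingHom) =
      Spec.map (CommRingCat.ofHom E.val.toRingHom) := by
    rw [Spec.map_comp]
    exact congrArg Subtype.val (h Y s)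
  exact RingHom.congr_fun (congrArg CommRingCat.Hom.hom (Spec.map_injective e))
    ⟨y, IntermediateField.mem_adjoin_simple_self K y⟩

theorem preGalois : PreGaloisCategory (FEt.Cat (Spec (CommRingCat.of K))) := preGaloisCategory _

theorem galoisCategory : GaloisCategory (FEt.Cat (Spec (CommRingCat.of K))) :=
  letI := preGalois (K := K)
  { hasFiberFunctor := ⟨_, FEtColim.fiberFunctor (xi K)⟩ }

attribute [local instance] galoisCategory

instance compactSpace_Γal : CompactSpace (Γal K) := compactSpace

theorem continuousSMul (Y : FEt.Cat (Spec (CommRingCat.of K))) :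
    ContinuousSMul (Γal K) ((finFiber (xi K)).obj Y) :=
  continuousSMul_iff_stabilizer_isOpen.mpr fun s => isOpen_stabilizer s

theorem isFundamentalGroup : PreGaloisCategory.IsFundamentalGroup (finFiber (xi K)) (Γal K) where
  transitive_of_isGalois Y _ := isPretransitive Y
  continuous_smul Y := continuousSMul Y
  non_trivial' g h := eq_one_of_smul_eq g h

/-- The Galois group is the automorphism group of the fibre functor, topologically. -/
theorem exists_continuousMulEquiv :
    Nonempty (Γal K ≃ₜ* Aut (finFiber (xi K))) := by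
  haveI := (FEtColim.fiberFunctor (xi K)).some
  haveI := isFundamentalGroup (K := K)
  exact ⟨{ PreGaloisCategory.toAutMulEquiv (finFiber (xi K)) (Γal K) with
    continuous_toFun := (PreGaloisCategory.toAut_isHomeomorph (finFiber (xi K)) (Γal K)).continuous
    continuous_invFun := (PreGaloisCategory.toAutHomeo (finFiber (xi K)) (Γal K)).symm.continuous.congr
      fun t => (PreGaloisCategory.toAutMulEquiv (finFiber (xi K)) (Γal K)).injective (by
        rw [PreGaloisCategory.toAutMulEquiv_apply, ← PreGaloisCategory.toAutHomeo_apply, Homeomorph.apply_symm_apply]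
        exact ((PreGaloisCategory.toAutMulEquiv (finFiber (xi K)) (Γal K)).apply_symm_apply t).symm) }⟩

theorem nonempty_equivalence :
    Nonempty (FEt.Cat (Spec (CommRingCat.of K)) ≌ ContAction FintypeCat.{u} (Γal K)) := by
  haveI := (FEtColim.fiberFunctor (xi K)).some
  obtain ⟨f⟩ := exists_continuousMulEquiv (K := K)
  exact ⟨(PreGaloisCategory.functorToContAction (finFiber (xi K))).asEquivalence.trans
    (ContAction.resEquiv _ f)⟩

/-- The Galois group is the fundamental group. -/
theorem nonempty_mulEquiv : Nonempty (Γal K ≃* Aut (FEt.fiber (xi K))) := by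
  obtain ⟨f⟩ := exists_continuousMulEquiv (K := K)
  exact ⟨f.toMulEquiv.trans
    (((Functor.FullyFaithful.ofFullyFaithful FintypeCat.incl.{u}).whiskeringRight _).autMulEquivOfFullyFaithful _ |>.trans
      (finFiberCompIncl (xi K)).conjAut)⟩

end FEtField
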