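import Mathlib.FieldTheory.Galois.Profinite
import Mathlib.FieldTheory.PurelyInseparable.Basic
import Mathlib.FieldTheory.SeparableClosure
import Mathlib.FieldTheory.IsAlgClosed.AlgebraicClosure

/-!
# The Galois group of a normal algebraic extension is compact
-/

set_option autoImplicit false
set_option linter.style.haveILetI false
universe u

open IntermediateField

noncomputable section

namespace FEtField

variable {K L : Type u} [Field K] [Field L] [Algebra K L] [Normal K L]

theorem fixed_of_fixes_separable (E : IntermediateField K L) (σ : L ≃ₐ[K] L)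
    (h : ∀ x ∈ E ⊓ separableClosure K L, σ x = x) (x : L) (hx : x ∈ E) : σ x = x := by
  obtain ⟨q, _⟩ := ExpChar.exists (separableClosure K L)
  haveI : ExpChar L q := expChar_of_injective_algebraMap (algebraMap (separableClosure K L) L).injective q
  obtain ⟨n, y, hy⟩ := IsPurelyInseparable.pow_mem (separableClosure K L) q x
  have hmem : x ^ q ^ n ∈ E ⊓ separableClosure K L :=
    IntermediateField.mem_inf.mpr ⟨pow_mem hx _, by rw [← hy]; exact y.2⟩
  apply iterateFrobenius_inj L q n
  rw [iterateFrobenius_def, iterateFrobenius_def, ← map_pow, h _ hmem]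

/-- Restriction to the separable closure. -/
abbrev res : (L ≃ₐ[K] L) →* (separableClosure K L ≃ₐ[K] separableClosure K L) :=
  AlgEquiv.restrictNormalHom (separableClosure K L)

theorem res_apply (σ : L ≃ₐ[K] L) (x : separableClosure K L) : (res σ x : L) = σ x :=
  AlgEquiv.restrictNormalHom_apply _ σ x

theorem res_bijective : Function.Bijective (res : (L ≃ₐ[K] L) →* (separableClosure K L ≃ₐ[K] separableClosure K L)) := by
  refine ⟨fun σ τ h => ?_, AlgEquiv.restrictNormalHom_surjective L⟩
  refine inv_mul_eq_one.mp (AlgEquiv.ext fun x => fixed_of_fixes_separable ⊤ _ (fun y hy => ?_) x trivial)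
  have := res_apply (σ⁻¹ * τ) ⟨y, (IntermediateField.mem_inf.mp hy).2⟩
  rw [map_mul, map_inv, h, inv_mul_cancel] at this
  exact this.symm

theorem compactSpace : CompactSpace (L ≃ₐ[K] L) := by
  let e : (L ≃ₐ[K] L) ≃* (separableClosure K L ≃ₐ[K] separableClosure K L) :=
    MulEquiv.ofBijective res res_bijective
  have hc : Continuous e.symm := by
    refine continuous_of_continuousAt_one e.symm.toMonoidHom (continuousAt_def.mpr fun N hN => ?_)
    rw [map_one, krullTopology_mem_nhds_one_iff] at hN
    obtain ⟨E, hE, hEN⟩ := hN
    rw [krullTopology_mem_nhds_one_iff]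
    haveI : FiniteDimensional K ↥(E ⊓ separableClosure K L) :=
      FiniteDimensional.of_injective (IntermediateField.inclusion inf_le_left).toLinearMap
        (IntermediateField.inclusion inf_le_left).injective
    refine ⟨IntermediateField.restrict (inf_le_right : E ⊓ separableClosure K L ≤ separableClosure K L),
      Module.Finite.equiv (IntermediateField.restrictAlgEquiv _).toLinearEquiv, fun τ hτ => hEN ?_⟩
    obtain ⟨σ, rfl⟩ := res_bijective.2 τ
    have hσ : e.symm (res σ) = σ := e.symm_apply_apply σ
    show e.symm (res σ) ∈ (E.fixingSubgroup : Set (L ≃ₐ[K] L))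
    rw [hσ, SetLike.mem_coe, IntermediateField.mem_fixingSubgroup_iff]
    refine fixed_of_fixes_separable E σ fun x hx => ?_
    have := (IntermediateField.mem_fixingSubgroup_iff _ _).mp hτ ⟨x, hx.2⟩
      ((IntermediateField.mem_restrict _ _).mpr hx)
    exact (res_apply σ ⟨x, hx.2⟩).symm.trans (congrArg Subtype.val this)
  haveI : IsGalois K (separableClosure K L) := inferInstance
  exact Function.Surjective.compactSpace hc e.symm.surjective

end FEtField
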